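import Groth.Agent.Lib.FLCRep18.Descent
import Groth.Agent.Lib.EtTrace21.H1Field
import Groth.Agent.Lib.EtBasicB.SepClosedNormal

/-!
# Degree one cohomology with finite constant coefficients from sections of finite étale covers

The lifts of a section of an injective quotient form a finite locally constant sheaf of sets,
hence a finite étale cover; a section of it kills the class.
-/

set_option autoImplicit false
set_option backward.isDefEq.respectTransparency false
set_option backward.isDefEq.respectTransparency.types false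
set_option linter.style.haveILetI false

universe u

open CategoryTheory CategoryTheory.Limits CategoryTheory.Abelian AlgebraicGeometry Opposite
open GrothLib.EtSite GrothLib.EtColim GrothLib.EtTrace21 GrothLib.EtRepSh GrothLib.FLCRep18

noncomputable section

namespace GrothLib.TorsorFin18

variable {X : Scheme.{u}} {A B : EtCoh.Ab X} (g : A ⟶ B) (s : EtCoh.sect B (EtCoh.top X))

/-- The map to the top. -/
abbrev toT (W : X.Etale) : W ⟶ EtCoh.top X := (EtCore.topIsTerminal X).from W

/-- Restriction of a section over the top. -/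
abbrev resT (F : EtCoh.Ab X) (W : X.Etale) (t : EtCoh.sect F (EtCoh.top X)) : EtCoh.sect F W :=
  F.obj.map (toT W).op t

theorem map_resT (F : EtCoh.Ab X) {W W' : X.Etale} (k : W' ⟶ W) (t : EtCoh.sect F (EtCoh.top X)) :
    F.obj.map k.op (resT F W t) = resT F W' t := by
  rw [resT, ← Functor.map_comp_apply, ← op_comp]
  exact congrArg (fun q => F.obj.map (Quiver.Hom.op q) t) ((EtCore.topIsTerminal X).hom_ext _ _)

/-- The presheaf of lifts of `s`. -/
def liftsPsh : X.Etaleᵒᵖ ⥤ Type (u + 1) where
  obj W := {a : A.obj.obj W // g.hom.app W a = resT B W.unop s}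
  map {W W'} k := ↾fun a => ⟨A.obj.map k a.1, by
    rw [NatTrans.naturality_apply, a.2]
    exact map_resT B k.unop s⟩
  map_id W := by
    ext a
    show A.obj.map (𝟙 W) a.1 = a.1
    rw [A.obj.map_id]; rfl
  map_comp k l := by
    ext a
    show A.obj.map (k ≫ l) a.1 = A.obj.map l (A.obj.map k a.1)
    rw [Functor.map_comp_apply]

theorem isSheaf_liftsPsh : Presheaf.IsSheaf X.smallEtaleTopology (liftsPsh g s) := by
  rw [isSheaf_iff_isSheaf_of_type]
  intro W R hR x hx
  have hA := (isSheaf_iff_isSheaf_of_type _ _).1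
    (GrothendieckTopology.HasSheafCompose.isSheaf (F := forget AddCommGrpCat.{u + 1}) A.obj A.property) R hR
  have hB := (isSheaf_iff_isSheaf_of_type _ _).1
    (GrothendieckTopology.HasSheafCompose.isSheaf (F := forget AddCommGrpCat.{u + 1}) B.obj B.property) R hR
  let y : Presieve.FamilyOfElements (A.obj ⋙ forget AddCommGrpCat.{u + 1}) R.arrows := fun V k hk => (x k hk).1
  have hy : y.Compatible := fun V₁ V₂ Z k₁ k₂ f₁ f₂ h₁ h₂ e => congrArg Subtype.val (hx k₁ k₂ h₁ h₂ e)
  obtain ⟨t, ht, htu⟩ := hA y hy
  refine ⟨⟨t, ?_⟩, fun V k hk => Subtype.ext (ht k hk), fun t' ht' => Subtype.ext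
    (htu t'.1 fun V k hk => congrArg Subtype.val (ht' k hk))⟩
  refine hB.isSeparatedFor.ext fun V k hk => ?_
  show B.obj.map k.op (g.hom.app (op W) t) = B.obj.map k.op (resT B W s)
  rw [← NatTrans.naturality_apply, map_resT, show A.obj.map k.op t = (x k hk).1 from ht k hk]
  exact (x k hk).2

/-- The sheaf of lifts. -/
def lifts : EtDesc.Sh X := ⟨liftsPsh g s, isSheaf_liftsPsh g s⟩

/-- The lifts are represented by a finite étale scheme when the kernel is constant finite. -/
theorem exists_finite_lifts {M : Type} [AddCommGroup M] [Finite M] (f : EtCoh.const X M ⟶ A)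
    (w : f ≫ g = 0) (hS : (ShortComplex.mk f g w).ShortExact) :
    ∃ (V : X.Etale) (_ : IsFinite V.hom) (_ : Surjective V.hom),
      Nonempty (lifts g s ≅ repSheaf V) := by
  haveI : Mono f := hS.mono_f
  haveI : Epi g := hS.epi_g
  haveI : Sheaf.IsLocallySurjective g := (Sheaf.isLocallySurjective_iff_epi' _ _).2 inferInstance
  let P₀ : X.Etaleᵒᵖ ⥤ AddCommGrpCat.{u + 1} := (Functor.const _).obj (AddCommGrpCat.of (ULift.{u + 1} M))
  let σ : P₀ ⟶ (EtCoh.const X M).obj := toSheafify X.smallEtaleTopology P₀
  -- a covering with lifts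
  have hloc : ∀ x : X, ∃ (W : X.Etale) (w : W.left) (z : EtCoh.sect A W),
      W.hom w = x ∧ g.hom.app (op W) z = resT B W s := fun x => by
    obtain ⟨W, k, w, ⟨z, hz⟩, hw⟩ := (mem_topology_iff _).1
      (Presheaf.imageSieve_mem X.smallEtaleTopology g.hom (U := op (EtCoh.top X)) s)
      (show ↥(EtCoh.top X).left from x)
    refine ⟨W, w, z, ?_, hz.trans ?_⟩
    · rw [← hw]
      exact congrArg (fun m : W.left ⟶ X => m w)
        ((MorphismProperty.Over.w k).symm.trans (Category.comp_id k.left))
    · exact congrArg (fun q => B.obj.map (Quiver.Hom.op q) s) ((EtCore.topIsTerminal X).hom_ext _ _)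
  choose W w₀ z hw hz using hloc
  have hg0 : ∀ (V : X.Etale) (c : EtCoh.sect (EtCoh.const X M) V), g.hom.app (op V) (f.hom.app (op V) c) = 0 :=
    fun V c => congr($(congrArg (fun a : EtCoh.const X M ⟶ B => a.hom.app (op V)) w) c)
  obtain ⟨V, hV, ⟨e⟩⟩ := exists_finite_iso (lifts g s) W (fun x => ⟨x, w₀ x, hw x⟩) fun x => by
    let α : (Functor.const (Over (W x))ᵒᵖ).obj (ULift.{u + 1} M) ⟶ (Over.forget (W x)).op ⋙ (lifts g s).obj :=
      { app := fun T => ↾fun m => ⟨(f.hom.app (op T.unop.left) (σ.app (op T.unop.left) m) : EtCoh.sect A T.unop.left) +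
            (A.obj.map T.unop.hom.op (z x) : EtCoh.sect A T.unop.left), by
              rw [map_add]
              erw [hg0, zero_add]
              refine (NatTrans.naturality_apply g.hom T.unop.hom.op (z x)).trans ?_
              refine (congrArg (B.obj.map T.unop.hom.op) (hz x)).trans ?_
              exact map_resT B T.unop.hom s⟩
        naturality := fun T T' k => by
          ext m
          refine Subtype.ext ?_
          show f.hom.app (op T'.unop.left) (σ.app (op T'.unop.left) m) + A.obj.map T'.unop.hom.op (z x) =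
            A.obj.map k.unop.left.op (f.hom.app (op T.unop.left) (σ.app (op T.unop.left) m) +
              A.obj.map T.unop.hom.op (z x))
          rw [map_add, ← NatTrans.naturality_apply f.hom, ← NatTrans.naturality_apply σ,
            ← Functor.map_comp_apply A.obj, ← op_comp, Over.w k.unop]
          rfl }
    haveI : Presheaf.IsLocallyInjective (X.smallEtaleTopology.over (W x)) α := ⟨fun {T} m m' h => by
      rw [GrothendieckTopology.mem_over_iff]
      have h' : σ.app (op T.unop.left) m = σ.app (op T.unop.left) m' :=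
        EtTrace21.injective_app f T.unop.left (add_right_cancel (congrArg Subtype.val h))
      refine X.smallEtaleTopology.superset_covering ?_
        (Presheaf.equalizerSieve_mem X.smallEtaleTopology σ (X := op T.unop.left) m m' h')
      intro V k hk
      exact (Sieve.overEquiv_iff _ k).2 hk⟩
    haveI : Presheaf.IsLocallySurjective (X.smallEtaleTopology.over (W x)) α := ⟨fun {T} t => by
      rw [GrothendieckTopology.mem_over_iff]
      let t₁ : EtCoh.sect A T.left := t.1
      obtain ⟨c, hc⟩ := exists_lift_sect hS (t₁ - A.obj.map T.hom.op (z x)) (by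
        show g.hom.app (op T.left) _ = 0
        rw [map_sub, NatTrans.naturality_apply, hz, sub_eq_zero, map_resT]
        exact t.2)
      refine X.smallEtaleTopology.superset_covering ?_
        (Presheaf.imageSieve_mem X.smallEtaleTopology σ (U := op T.left) c)
      rintro V k ⟨m, hm⟩
      refine (Sieve.overEquiv_iff _ k).2 ⟨m, Subtype.ext ?_⟩
      show f.hom.app (op V) (σ.app (op V) m) + A.obj.map (k ≫ T.hom).op (z x) = A.obj.map k.op t.1
      rw [show σ.app (op V) m = (EtCoh.const X M).obj.map k.op c from hm, NatTrans.naturality_apply,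
        op_comp, Functor.map_comp_apply, ← map_add]
      exact congrArg _ (eq_sub_iff_add_eq.1 hc)⟩
    exact ⟨Nat.card (ULift.{u + 1} M), over_iso_triv X (lifts g s) (W x) α
      ((X.smallEtaleTopology.over (W x)).W_of_isLocallyBijective α)⟩
  refine ⟨V, hV, ⟨fun x => ?_⟩, ⟨e⟩⟩
  let k : W x ⟶ V := (e.hom.hom.app (op (W x)) (⟨z x, hz x⟩ : (liftsPsh g s).obj (op (W x)))).down
  refine ⟨k.left (w₀ x), ?_⟩
  exact (congrArg (fun m : (W x).left ⟶ X => m (w₀ x)) (MorphismProperty.Over.w k)).trans (hw x)

/-- `H¹(X, M) = 0` when surjective finite étale covers of `X` have sections. -/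
theorem subsingleton_H_one (X : Scheme.{u}) (M : Type) [AddCommGroup M] [Finite M]
    (h : ∀ (V : Scheme.{u}) (φ : V ⟶ X) [Etale φ] [IsFinite φ] [Surjective φ], ∃ σ : X ⟶ V, σ ≫ φ = 𝟙 X) :
    Subsingleton (EtCoh.H X (EtCoh.const X M) 1) := by
  suffices hx : ∀ x : EtCoh.H X (EtCoh.const X M) 1, x = 0 from ⟨fun a b => (hx a).trans (hx b).symm⟩
  intro x
  have hS := injS_shortExact (EtCoh.const X M)
  haveI : Injective (injS (EtCoh.const X M)).X₂ :=
    inferInstanceAs (Injective (Injective.under (EtCoh.const X M)))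
  obtain ⟨c₀, hc₀⟩ := Ext.covariant_sequence_exact₁ _ hS x (Ext.eq_zero_of_injective _) rfl
  subst hc₀
  obtain ⟨φ, rfl⟩ := (Ext.mk₀_bijective _ _).2 c₀
  let s : EtCoh.sect (injS (EtCoh.const X M)).X₃ (EtCoh.top X) := evOne _ φ
  obtain ⟨V, hV, hVs, ⟨e⟩⟩ := exists_finite_lifts (injS (EtCoh.const X M)).g s
    (injS (EtCoh.const X M)).f (injS (EtCoh.const X M)).zero hS
  haveI : Etale (str V) := V.prop
  haveI : IsFinite (str V) := hV
  haveI : Surjective (str V) := hVs
  obtain ⟨σ, hσ⟩ := h V.left (str V)
  let m : EtCoh.top X ⟶ V := MorphismProperty.Over.homMk σ hσ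
  let t := e.inv.hom.app (op (EtCoh.top X)) (ULift.up m : (repPsh V).obj (op (EtCoh.top X)))
  obtain ⟨ψ, hψ⟩ := (bijective_evOne (injS (EtCoh.const X M)).X₂).2 (Subtype.val t)
  have hψφ : ψ ≫ (injS (EtCoh.const X M)).g = φ := by
    refine (bijective_evOne _).1 ?_
    show (injS (EtCoh.const X M)).g.hom.app (op (EtCoh.top X)) (evOne _ ψ) = s
    rw [hψ]
    refine (Subtype.prop t).trans ?_
    show resT _ (EtCoh.top X) s = s
    rw [resT, show toT (EtCoh.top X) = 𝟙 _ from (EtCore.topIsTerminal X).hom_ext _ _, op_id,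
      CategoryTheory.Functor.map_id]
    rfl
  rw [← hψφ, ← Ext.mk₀_comp_mk₀, Ext.comp_assoc_of_second_deg_zero, hS.comp_extClass, Ext.comp_zero]

end GrothLib.TorsorFin18
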