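import Groth.Agent.Lib.TorsorFin18.Basic
import Groth.Agent.Lib.EtTrace21.Torsion

/-!
# Degree one classes of finite locally constant sheaves die on finite étale covers
-/

set_option autoImplicit false
set_option backward.isDefEq.respectTransparency false
set_option backward.isDefEq.respectTransparency.types false
set_option linter.style.haveILetI false

universe u

open CategoryTheory CategoryTheory.Limits CategoryTheory.Abelian AlgebraicGeometry Opposite
open GrothLib.EtSite GrothLib.EtColim GrothLib.EtTrace21 GrothLib.EtRepSh GrothLib.FLCRep18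

noncomputable section

namespace GrothLib.TorsorFin18

variable {X : Scheme.{u}} {K A B : EtCoh.Ab X}

/-- The lifts are represented by a finite étale cover when the kernel is finite locally constant. -/
theorem exists_finite_lifts_locConst (f : K ⟶ A) (g : A ⟶ B) (w : f ≫ g = 0)
    (hS : (ShortComplex.mk f g w).ShortExact) (hK : EtCoh.IsFiniteLocallyConstant K)
    (s : EtCoh.sect B (EtCoh.top X)) :
    ∃ (V : X.Etale) (_ : IsFinite V.hom) (_ : Surjective V.hom),
      Nonempty (lifts g s ≅ repSheaf V) := by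
  haveI : Mono f := hS.mono_f
  haveI : Epi g := hS.epi_g
  haveI : Sheaf.IsLocallySurjective g := (Sheaf.isLocallySurjective_iff_epi' _ _).2 inferInstance
  obtain ⟨ι, U, hU, htriv⟩ := hK
  -- a covering with lifts, refining the trivializing one
  have hloc : ∀ x : X, ∃ (W : X.Etale) (w : W.left) (z : EtCoh.sect A W) (i : ι) (_ : W ⟶ U i),
      W.hom w = x ∧ g.hom.app (op W) z = resT B W s := fun x => by
    obtain ⟨i, y, hy⟩ := hU x
    obtain ⟨W, k, w, ⟨z, hz⟩, hw⟩ := (mem_topology_iff _).1
      (Presheaf.imageSieve_mem X.smallEtaleTopology g.hom (U := op (U i)) (resT B (U i) s)) y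
    refine ⟨W, w, z, i, k, ?_, hz.trans (map_resT B k s)⟩
    rw [← hy, ← hw]
    exact congrArg (fun m : W.left ⟶ X => m w) (MorphismProperty.Over.w k).symm
  choose W w₀ z i k hw hz using hloc
  have hg0 : ∀ (V : X.Etale) (c : EtCoh.sect K V), g.hom.app (op V) (f.hom.app (op V) c) = 0 :=
    fun V c => congr($(congrArg (fun a : K ⟶ B => a.hom.app (op V)) w) c)
  obtain ⟨V, hV, ⟨e⟩⟩ := exists_finite_iso (lifts g s) W (fun x => ⟨x, w₀ x, hw x⟩) fun x => by
    obtain ⟨M, _, _, ⟨E⟩⟩ := htriv (i x)
    let JU := X.smallEtaleTopology.over (U (i x))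
    let P₀ : (Over (U (i x)))ᵒᵖ ⥤ AddCommGrpCat.{u + 1} :=
      (Functor.const _).obj (AddCommGrpCat.of (ULift.{u + 1} M))
    let σ : P₀ ⟶ (Over.forget (U (i x))).op ⋙ K.obj := toSheafify JU P₀ ≫ E.inv.hom
    haveI : IsIso E.inv.hom := ⟨E.hom.hom, congrArg (fun q => q.hom) E.inv_hom_id,
      congrArg (fun q => q.hom) E.hom_inv_id⟩
    haveI : Presheaf.IsLocallyInjective JU σ := inferInstance
    haveI : Presheaf.IsLocallySurjective JU σ := inferInstance
    let up : ∀ T : Over (W x), Over (U (i x)) := fun T => Over.mk (T.hom ≫ k x)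
    let α : (Functor.const (Over (W x))ᵒᵖ).obj (ULift.{u + 1} M) ⟶ (Over.forget (W x)).op ⋙ (lifts g s).obj :=
      { app := fun T => ↾fun m => ⟨(f.hom.app (op T.unop.left) (σ.app (op (up T.unop)) m) : EtCoh.sect A T.unop.left) +
            (A.obj.map T.unop.hom.op (z x) : EtCoh.sect A T.unop.left), by
              rw [map_add]
              erw [hg0, zero_add]
              refine (NatTrans.naturality_apply g.hom T.unop.hom.op (z x)).trans ?_
              refine (congrArg (B.obj.map T.unop.hom.op) (hz x)).trans ?_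
              exact map_resT B T.unop.hom s⟩
        naturality := fun T T' l => by
          ext m
          refine Subtype.ext ?_
          show f.hom.app (op T'.unop.left) (σ.app (op (up T'.unop)) m) + A.obj.map T'.unop.hom.op (z x) =
            A.obj.map l.unop.left.op (f.hom.app (op T.unop.left) (σ.app (op (up T.unop)) m) +
              A.obj.map T.unop.hom.op (z x))
          have hl : σ.app (op (up T'.unop)) m = K.obj.map l.unop.left.op (σ.app (op (up T.unop)) m) :=
            NatTrans.naturality_apply σ (Over.homMk l.unop.left (by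
              show l.unop.left ≫ T.unop.hom ≫ k x = T'.unop.hom ≫ k x
              rw [← Category.assoc, Over.w l.unop]) : up T'.unop ⟶ up T.unop).op m
          rw [map_add, ← NatTrans.naturality_apply f.hom, ← hl,
            ← Functor.map_comp_apply A.obj, ← op_comp, Over.w l.unop] }
    haveI : Presheaf.IsLocallyInjective (X.smallEtaleTopology.over (W x)) α := ⟨fun {T} m m' h => by
      rw [GrothendieckTopology.mem_over_iff]
      have h' : σ.app (op (up T.unop)) m = σ.app (op (up T.unop)) m' :=
        EtTrace21.injective_app f T.unop.left (add_right_cancel (congrArg Subtype.val h))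
      have hm := Presheaf.equalizerSieve_mem JU σ (X := op (up T.unop)) m m' h'
      rw [GrothendieckTopology.mem_over_iff] at hm
      refine X.smallEtaleTopology.superset_covering ?_ hm
      intro V l hl
      exact (Sieve.overEquiv_iff _ l).2 ((Sieve.overEquiv_iff (Y := up T.unop) _ l).1 hl)⟩
    haveI : Presheaf.IsLocallySurjective (X.smallEtaleTopology.over (W x)) α := ⟨fun {T} t => by
      rw [GrothendieckTopology.mem_over_iff]
      let t₁ : EtCoh.sect A T.left := t.1
      obtain ⟨c, hc⟩ := exists_lift_sect hS (t₁ - A.obj.map T.hom.op (z x)) (by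
        show g.hom.app (op T.left) _ = 0
        rw [map_sub, NatTrans.naturality_apply, hz, sub_eq_zero, map_resT]
        exact t.2)
      have hc' := Presheaf.imageSieve_mem JU σ (U := op (up T)) c
      rw [GrothendieckTopology.mem_over_iff] at hc'
      refine X.smallEtaleTopology.superset_covering ?_ hc'
      intro V l hl
      obtain ⟨m, hm⟩ := (Sieve.overEquiv_iff (Y := up T) _ l).1 hl
      refine (Sieve.overEquiv_iff _ l).2 ⟨m, Subtype.ext ?_⟩
      show f.hom.app (op V) (σ.app (op (up (Over.mk (l ≫ T.hom)))) m) + A.obj.map (l ≫ T.hom).op (z x) =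
        A.obj.map l.op t.1
      have hm' : σ.app (op (up (Over.mk (l ≫ T.hom)))) m = K.obj.map l.op c := by
        have := NatTrans.naturality_apply σ (Over.homMk (𝟙 V) (by simp [up]) :
          up (Over.mk (l ≫ T.hom)) ⟶ Over.mk (l ≫ (up T).hom)).op m
        refine this.trans ((congrArg (K.obj.map (𝟙 V).op) hm).trans ?_)
        show K.obj.map (𝟙 V).op (K.obj.map l.op c) = _
        simp
      rw [hm', NatTrans.naturality_apply, op_comp, Functor.map_comp_apply, ← map_add]
      exact congrArg _ (eq_sub_iff_add_eq.1 hc)⟩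
    exact ⟨Nat.card (ULift.{u + 1} M), over_iso_triv X (lifts g s) (W x) α
      ((X.smallEtaleTopology.over (W x)).W_of_isLocallyBijective α)⟩
  refine ⟨V, hV, ⟨fun x => ?_⟩, ⟨e⟩⟩
  let l : W x ⟶ V := (e.hom.hom.app (op (W x)) (⟨z x, hz x⟩ : (liftsPsh g s).obj (op (W x)))).down
  refine ⟨l.left (w₀ x), ?_⟩
  exact (congrArg (fun m : (W x).left ⟶ X => m (w₀ x)) (MorphismProperty.Over.w l)).trans (hw x)

/-- A class of degree one of a finite locally constant sheaf dies on a finite étale cover. -/
theorem exists_finite_kill (F : EtCoh.Ab X) (hF : EtCoh.IsFiniteLocallyConstant F) (ζ : EtCoh.H X F 1) :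
    ∃ V : X.Etale, IsFinite V.hom ∧ Surjective V.hom ∧
      ∀ [PreservesFiniteLimits (EtCoh.pull V.hom)], EtCore.Hpull V.hom F 1 ζ = 0 := by
  have hS := injS_shortExact F
  haveI : Injective (injS F).X₂ := inferInstanceAs (Injective (Injective.under F))
  obtain ⟨c₀, rfl⟩ := Ext.covariant_sequence_exact₁ _ hS ζ (Ext.eq_zero_of_injective _) rfl
  obtain ⟨φ, rfl⟩ := (Ext.mk₀_bijective _ _).2 c₀
  obtain ⟨V, hV, hVs, ⟨e⟩⟩ := exists_finite_lifts_locConst (injS F).f (injS F).g (injS F).zero hS hF
    (evOne _ φ)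
  refine ⟨V, hV, hVs, ?_⟩
  intro _
  haveI : Etale V.hom := V.prop
  let j : V.left ⟶ X := V.hom
  let a := e.inv.hom.app (op V) (ULift.up (𝟙 V) : (repPsh V).obj (op V))
  let σ : EtCoh.top V.left ⟶ (EtCoh.bc j).obj V :=
    MorphismProperty.Over.homMk (pullback.lift (𝟙 V.left) (𝟙 V.left) (by simp [j]))
      (pullback.lift_snd _ _ _)
  obtain ⟨ψ, hψ⟩ := (bijective_evOne _).2 (((EtCoh.pull j).obj (injS F).X₂).obj.map σ.op
    (((EtCoh.pullPushAdj j).unit.app (injS F).X₂).hom.app (op V) (Subtype.val a)))
  have hψφ : ψ ≫ (EtCoh.pull j).map (injS F).g = (EtCore.pullConst j ℤ).inv ≫ (EtCoh.pull j).map φ := by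
    refine (bijective_evOne _).1 ?_
    rw [evOne_comp, evOne_comp, hψ, evOne_pullConst_inv]
    refine (NatTrans.naturality_apply ((EtCoh.pull j).map (injS F).g).hom σ.op _).trans ?_
    refine Eq.trans ?_ (NatTrans.naturality_apply ((EtCoh.pull j).map φ).hom (EtCore.bcTopIso j).inv.op _).symm
    have h1 := congrArg (fun q : (injS F).X₂ ⟶ _ => q.hom.app (op V) (Subtype.val a))
      ((EtCoh.pullPushAdj j).unit.naturality (injS F).g)
    have h2 := congrArg (fun q : Z X ⟶ _ => q.hom.app (op (EtCoh.top X)) (one X))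
      ((EtCoh.pullPushAdj j).unit.naturality φ)
    have h3 := (congrArg (((EtCoh.pullPushAdj j).unit.app (injS F).X₃).hom.app (op V)) (Subtype.prop a)).trans
      (NatTrans.naturality_apply ((EtCoh.pullPushAdj j).unit.app (injS F).X₃).hom (toT V).op (evOne _ φ))
    refine ((congrArg (((EtCoh.pull j).obj (injS F).X₃).obj.map σ.op) (h1.symm.trans h3)).trans ?_).trans
      (congrArg (((EtCoh.pull j).obj (injS F).X₃).obj.map (EtCore.bcTopIso j).inv.op) h2)
    change ((EtCoh.pull j).obj (injS F).X₃).obj.map σ.op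
        (((EtCoh.pull j).obj (injS F).X₃).obj.map ((EtCoh.bc j).map (toT V)).op _) = _
    rw [← ConcreteCategory.comp_apply, ← Functor.map_comp, ← op_comp]
    congr 4
    exact (EtCore.bcTopIsTerminal j).hom_ext _ _
  haveI : PreservesFiniteLimits (EtCoh.pull j) := ‹PreservesFiniteLimits (EtCoh.pull V.hom)›
  change EtCore.Hpull j F 1 _ = 0
  rw [GrothLib.EtDer.MV.Hpull_apply, Ext.mapExactFunctor_comp, Ext.mapExactFunctor_mk₀,
    Ext.mk₀_comp_mk₀_assoc, ← hψφ, ← Ext.mk₀_comp_mk₀_assoc, ← Ext.mapExactFunctor_mk₀,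
    ← Ext.mapExactFunctor_comp, hS.comp_extClass, Ext.mapExactFunctor_zero, Ext.comp_zero]

end GrothLib.TorsorFin18
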